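import Cfsg.Agent.Lib.GTwoSquare.Orbits

/-!
Elliptic elements of the Levi subgroup: their classes absorb the two radicals, and the products of two
of them in the Levi subgroup.
-/

set_option autoImplicit false

namespace CfsgLib.GTwoSquare

open Matrix Cfsg.Lie CfsgLib.G2Spec CfsgLib.OctG2 CfsgLib.NormalCover.OctEven
open scoped MatrixGroups

variable {F : Type*} [Field F]

local notation "V8" => Fin 8 → F
local notation "M2" => Matrix (Fin 2) (Fin 2) F

/-- The parameters of an elliptic element with determinant different from one. -/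
def Irr (τ ν : F) : Prop := ν ≠ 0 ∧ ν ≠ 1 ∧ ∀ r : F, r * r - τ * r + ν ≠ 0

theorem Irr.inv {τ ν : F} (h : Irr τ ν) : Irr (τ / ν) ν⁻¹ := by
  obtain ⟨h0, h1, hr⟩ := h
  refine ⟨inv_ne_zero h0, fun e => h1 (by rwa [inv_eq_one] at e), fun r e => ?_⟩
  by_cases r0 : r = 0
  · subst r0; simp [h0] at e
  refine hr r⁻¹ ?_
  field_simp at e ⊢
  linear_combination e

theorem exists_tau [Fintype F] {ν : F} (h0 : ν ≠ 0) : ∃ τ : F, ∀ r : F, r * r - τ * r + ν ≠ 0 := by
  classical
  have hlt : ((Finset.univ.erase (0 : F)).image fun r => r + ν / r).card < Fintype.card F := by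
    refine lt_of_le_of_lt Finset.card_image_le ?_
    exact Finset.card_lt_card (Finset.erase_ssubset (Finset.mem_univ _))
  obtain ⟨τ, hτ⟩ : ∃ τ, τ ∉ (Finset.univ.erase (0 : F)).image fun r => r + ν / r := by
    by_contra h
    push Not at h
    rw [Finset.eq_univ_of_forall h, Finset.card_univ] at hlt
    exact lt_irrefl _ hlt
  refine ⟨τ, fun r e => ?_⟩
  by_cases r0 : r = 0
  · subst r0; simp [h0] at e
  refine hτ (Finset.mem_image.2 ⟨r, Finset.mem_erase.2 ⟨r0, Finset.mem_univ _⟩, ?_⟩)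
  field_simp
  linear_combination e

theorem eigen_zero {τ ν r x y : F} (hr : r * r - τ * r + ν ≠ 0) {a b c d : F} (ht : a + d = τ)
    (hd : a * d - b * c = ν) (e1 : a * x + b * y = r * x) (e2 : c * x + d * y = r * y) :
    x = 0 ∧ y = 0 := by
  constructor
  · refine (mul_eq_zero.1 ?_).resolve_left hr
    linear_combination (d - r) * e1 - b * e2 + r * x * ht - x * hd
  · refine (mul_eq_zero.1 ?_).resolve_left hr
    linear_combination (a - r) * e2 - c * e1 + r * y * ht - y * hd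

/-- The companion matrix. -/
noncomputable def comp (τ ν : F) (h : ν ≠ 0) : GL (Fin 2) F :=
  GeneralLinearGroup.mkOfDetNeZero !![0, -ν; 1, τ] (by simpa [det_fin_two] using h)

theorem coe_comp (τ ν : F) (h : ν ≠ 0) : (comp τ ν h : M2) = !![0, -ν; 1, τ] := rfl

/-- The transpose of the inverse. -/
noncomputable def ti (B : GL (Fin 2) F) : GL (Fin 2) F :=
  GeneralLinearGroup.mkOfDetNeZero
    ((B : M2).det⁻¹ • !![(B : M2) 1 1, -(B : M2) 1 0; -(B : M2) 0 1, (B : M2) 0 0]) (by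
    rw [det_smul]
    refine mul_ne_zero (pow_ne_zero _ (inv_ne_zero (det_ne B))) ?_
    simpa [det_fin_two, mul_comm] using det_ne B)

theorem coe_ti (B : GL (Fin 2) F) : (ti B : M2) =
    (B : M2).det⁻¹ • !![(B : M2) 1 1, -(B : M2) 1 0; -(B : M2) 0 1, (B : M2) 0 0] := rfl

theorem det_ti (B : GL (Fin 2) F) : (ti B : M2).det = (B : M2).det⁻¹ := by
  rw [coe_ti, det_smul]
  have := det_ne B
  simp [det_fin_two] at this ⊢
  field_simp

theorem trace_ti (B : GL (Fin 2) F) : (ti B : M2).trace = (B : M2).trace / (B : M2).det := by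
  rw [coe_ti, trace_fin_two, trace_fin_two]
  simp
  ring

theorem sg_iGL (B : GL (Fin 2) F) : sg * iGL B * sg = iGL (ti B) := by
  refine app_ext fun v => ?_
  have hd := det_ne B
  rw [app_mul, app_mul, app_iGL, app_iGL, app_sg, app_sg, det_ti, coe_ti]
  funext k
  fin_cases k <;> simp <;> field_simp <;> ring

theorem iGL_fix6 (B : GL (Fin 2) F) : app (iGL B) (E 6 : V8) = (B : M2).det • E 6 := by
  rw [app_iGL]; funext k; fin_cases k <;> simp [E]

theorem iGL_conj_Qp (B : GL (Fin 2) F) {n : G2 F} (hn : n ∈ Qp) : iGL B * n * (iGL B)⁻¹ ∈ Qp := by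
  rw [← map_inv]
  obtain ⟨h6, ⟨a, ha⟩, ⟨b, hb⟩⟩ := hn
  have hd := det_ne B⁻¹
  have e : ∀ C : GL (Fin 2) F, app (iGL C) (E 1 : V8) = (C : M2) 0 0 • E 1 + (C : M2) 1 0 • E 2 ∧
      app (iGL C) (E 2 : V8) = (C : M2) 0 1 • E 1 + (C : M2) 1 1 • E 2 := fun C => by
    constructor <;> (rw [app_iGL]; funext k; fin_cases k <;> simp [E])
  have inv6 : app (iGL B⁻¹) (E 6 : V8) = ((B⁻¹ : GL (Fin 2) F) : M2).det • E 6 := iGL_fix6 _
  have back : ∀ v, app (iGL B) (app (iGL B⁻¹) v) = v := fun v => by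
    rw [← app_mul, ← map_mul, mul_inv_cancel, map_one, app_one]
  refine ⟨?_, ⟨((B⁻¹ : GL (Fin 2) F) : M2) 0 0 * a * (B : M2).det + ((B⁻¹ : GL (Fin 2) F) : M2) 1 0 * b *
    (B : M2).det, ?_⟩, ⟨((B⁻¹ : GL (Fin 2) F) : M2) 0 1 * a * (B : M2).det +
    ((B⁻¹ : GL (Fin 2) F) : M2) 1 1 * b * (B : M2).det, ?_⟩⟩
  · rw [app_mul, app_mul, inv6, app_smul, h6, app_smul, iGL_fix6, smul_smul, ← det_mul, ← Units.val_mul,
      inv_mul_cancel, Units.val_one, det_one, one_smul]
  · rw [app_mul, app_mul, (e _).1, app_add, app_smul, app_smul, ha, hb]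
    conv_rhs => arg 1; rw [← back (E 1), (e _).1]
    simp only [app_add, app_smul, iGL_fix6]
    module
  · rw [app_mul, app_mul, (e _).2, app_add, app_smul, app_smul, ha, hb]
    conv_rhs => arg 1; rw [← back (E 2), (e _).2]
    simp only [app_add, app_smul, iGL_fix6]
    module

/-- An elliptic element centralises no element of the radical. -/
theorem cent_Qp {τ ν : F} (h : Irr τ ν) {B : GL (Fin 2) F} (ht : (B : M2).trace = τ)
    (hd : (B : M2).det = ν) {n : G2 F} (hn : n ∈ Qp) (hc : iGL B * n = n * iGL B) : n = 1 := by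
  obtain ⟨h0, h1, hr⟩ := h
  refine Qp_fix hn ?_
  obtain ⟨w, hw⟩ : ∃ w, w = app n (E 3 : V8) := ⟨_, rfl⟩
  rw [← hw]
  have hw3 : w 3 = 1 := by rw [hw, app_three hn.1, E_self]
  have hs : Sing w := hw ▸ sing_app n (sing_E (by decide) (by decide))
  have heig : app (iGL B) w = ν⁻¹ • w := by
    rw [hw, ← app_mul, hc, app_mul, ← app_smul]
    congr 1
    rw [app_iGL, hd]; funext k; fin_cases k <;> simp [E]
  rw [app_iGL, hd] at heig
  have ht' : (B : M2) 0 0 + (B : M2) 1 1 = τ := by rw [← ht, trace_fin_two]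
  have hd' : (B : M2) 0 0 * (B : M2) 1 1 - (B : M2) 0 1 * (B : M2) 1 0 = ν := by rw [← hd, det_fin_two]
  have hne : ν⁻¹ ≠ 1 := fun e => h1 (by rwa [inv_eq_one] at e)
  have w0 : w 0 = 0 := by
    have e : w 0 = ν⁻¹ * w 0 := by simpa using congrFun heig 0
    exact (mul_eq_zero.1 (show (ν⁻¹ - 1) * w 0 = 0 by linear_combination -e)).resolve_left
      (sub_ne_zero.2 hne)
  have w7 : w 7 = 0 := by
    have := hs.1; rwa [trc_apply, w0, zero_add] at this
  obtain ⟨w1, w2⟩ := eigen_zero (hr ν⁻¹) ht' hd' (x := w 1) (y := w 2)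
    (by simpa using congrFun heig 1) (by simpa using congrFun heig 2)
  have e4 : (B : M2) 1 1 * w 4 - (B : M2) 1 0 * w 5 = w 4 := by simpa [h0] using congrFun heig 4
  have e5 : (B : M2) 0 0 * w 5 - (B : M2) 0 1 * w 4 = w 5 := by simpa [h0] using congrFun heig 5
  obtain ⟨w4, w5⟩ := eigen_zero (hr 1) (a := (B : M2) 1 1) (b := -(B : M2) 1 0) (c := -(B : M2) 0 1)
    (d := (B : M2) 0 0) (x := w 4) (y := w 5) (by linear_combination ht') (by linear_combination hd')
    (by linear_combination e4) (by linear_combination e5)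
  have w6 : w 6 = 0 := by simpa [nrm, dot3, zA, zB, w0, w1, w2, hw3] using hs.2
  funext k; fin_cases k <;> simp [E, w0, w1, w2, hw3, w4, w5, w6, w7]

variable [Fintype F]

/-- Elliptic elements are conjugate to all elements of their coset of the radical. -/
theorem absorb_right {τ ν : F} (h : Irr τ ν) {B : GL (Fin 2) F} (ht : (B : M2).trace = τ)
    (hd : (B : M2).det = ν) {n : G2 F} (hn : n ∈ Qp) : IsConj (iGL B) (iGL B * n) := by
  classical
  let f : ↥(Qp : Subgroup (G2 F)) → ↥(Qp : Subgroup (G2 F)) := fun m =>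
    ⟨(iGL B)⁻¹ * (m : G2 F)⁻¹ * iGL B * (m : G2 F), mul_mem (by
      have := iGL_conj_Qp B⁻¹ (inv_mem m.2)
      rwa [map_inv, inv_inv] at this) m.2⟩
  have hinj : Function.Injective f := by
    intro m m' e
    have e' := congrArg Subtype.val e
    simp only [f] at e'
    have hc : iGL B * ((m : G2 F) * (m' : G2 F)⁻¹) = (m : G2 F) * (m' : G2 F)⁻¹ * iGL B := by
      calc iGL B * ((m : G2 F) * (m' : G2 F)⁻¹)
          = (m : G2 F) * iGL B * ((iGL B)⁻¹ * (m : G2 F)⁻¹ * iGL B * m) * (m' : G2 F)⁻¹ := by group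
        _ = _ := by rw [e']; group
    exact Subtype.ext (mul_inv_eq_one.1 (cent_Qp h ht hd (mul_mem m.2 (inv_mem m'.2)) hc))
  obtain ⟨m, hm⟩ := Finite.injective_iff_surjective.1 hinj ⟨n, hn⟩
  have := congrArg Subtype.val hm
  simp only [f] at this
  exact isConj_iff.2 ⟨(m : G2 F)⁻¹, by rw [← this]; group⟩

/-- The same for the other side. -/
theorem absorb_left {τ ν : F} (h : Irr τ ν) {B : GL (Fin 2) F} (ht : (B : M2).trace = τ)
    (hd : (B : M2).det = ν) {n : G2 F} (hn : n ∈ Qp) : IsConj (iGL B) (n * iGL B) := by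
  have h' := iGL_conj_Qp B⁻¹ hn
  rw [map_inv, inv_inv] at h'
  have := absorb_right h ht hd h'
  rwa [← mul_assoc, ← mul_assoc, mul_inv_cancel, one_mul] at this

omit [Fintype F] in
/-- Two by two matrices with irreducible characteristic polynomial are conjugate to the companion. -/
theorem isConj_comp {τ ν : F} (h : Irr τ ν) {B : GL (Fin 2) F} (ht : (B : M2).trace = τ)
    (hd : (B : M2).det = ν) : IsConj (comp τ ν h.1) B := by
  rw [trace_fin_two] at ht
  rw [det_fin_two] at hd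
  have hc : (B : M2) 1 0 ≠ 0 := fun hc => h.2.2 ((B : M2) 0 0) (by
    rw [← ht, ← hd, hc]; ring)
  let P : GL (Fin 2) F := GeneralLinearGroup.mkOfDetNeZero !![1, (B : M2) 0 0; 0, (B : M2) 1 0]
    (by simpa [det_fin_two] using hc)
  refine isConj_iff.2 ⟨P, mul_inv_eq_iff_eq_mul.2 (Units.ext ?_)⟩
  rw [Units.val_mul, Units.val_mul, coe_comp]
  show !![1, (B : M2) 0 0; 0, (B : M2) 1 0] * !![0, -ν; 1, τ] = (B : M2) * !![1, (B : M2) 0 0; 0, (B : M2) 1 0]
  ext i j
  fin_cases i <;> fin_cases j <;> simp [Matrix.mul_apply, Fin.sum_univ_two]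
  · linear_combination hd - (B : M2) 0 0 * ht
  · linear_combination -(B : M2) 1 0 * ht

/-- The two classes of the Levi subgroup in the class of the chosen element. -/
def Good (τ ν : F) (B : GL (Fin 2) F) : Prop :=
  ((B : M2).det = ν ∧ (B : M2).trace = τ) ∨ ((B : M2).det = ν⁻¹ ∧ (B : M2).trace = τ / ν)

variable {τ ν : F}

omit [Fintype F] in
theorem Good.isConj (h : Irr τ ν) {B : GL (Fin 2) F} (hB : Good τ ν B) :
    IsConj (iGL (comp τ ν h.1)) (iGL B) := by
  rcases hB with ⟨hd, ht⟩ | ⟨hd, ht⟩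
  · exact MonoidHom.map_isConj iGL (isConj_comp h ht hd)
  · have ht' : (ti B : M2).trace = τ := by rw [trace_ti, ht, hd]; field_simp [h.1]
    have hd' : (ti B : M2).det = ν := by rw [det_ti, hd, inv_inv]
    refine (MonoidHom.map_isConj iGL (isConj_comp h ht' hd')).trans (isConj_iff.2 ⟨sg, ?_⟩)
    rw [sg_inv, ← sg_iGL]
    simp only [← mul_assoc, sg_mul_sg, one_mul]
    rw [mul_assoc, sg_mul_sg, mul_one]

theorem Good.absorb_right (h : Irr τ ν) {B : GL (Fin 2) F} (hB : Good τ ν B) {n : G2 F} (hn : n ∈ Qp) :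
    IsConj (iGL (comp τ ν h.1)) (iGL B * n) := by
  refine (hB.isConj h).trans ?_
  rcases hB with ⟨hd, ht⟩ | ⟨hd, ht⟩
  · exact CfsgLib.GTwoSquare.absorb_right h ht hd hn
  · exact CfsgLib.GTwoSquare.absorb_right h.inv ht hd hn

theorem Good.absorb_left (h : Irr τ ν) {B : GL (Fin 2) F} (hB : Good τ ν B) {u : G2 F} (hu : u ∈ Qm) :
    IsConj (iGL (comp τ ν h.1)) (u * iGL B) := by
  refine (hB.isConj h).trans ?_
  have key : ∀ {τ' ν' : F}, Irr τ' ν' → (ti B : M2).trace = τ' → (ti B : M2).det = ν' →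
      IsConj (iGL B) (u * iGL B) := fun hI ht hd => by
    have := MonoidHom.map_isConj (MulAut.conj (sg : G2 F)).toMonoidHom
      (CfsgLib.GTwoSquare.absorb_left hI ht hd (mem_Qm.1 hu))
    simp only [MulEquiv.coe_toMonoidHom, MulAut.conj_apply, sg_inv, ← sg_iGL] at this
    have e : ∀ y : G2 F, sg * (sg * y * sg) * sg = y := fun y => by
      simp only [← mul_assoc, sg_mul_sg, one_mul]
      rw [mul_assoc, sg_mul_sg, mul_one]
    have e2 : sg * u * sg * (sg * iGL B * sg) = sg * (u * iGL B) * sg := by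
      calc sg * u * sg * (sg * iGL B * sg) = sg * u * (sg * sg) * iGL B * sg := by simp only [mul_assoc]
        _ = _ := by rw [sg_mul_sg, mul_one, mul_assoc sg u]
    rwa [e2, e, e] at this
  rcases hB with ⟨hd, ht⟩ | ⟨hd, ht⟩
  · exact key h.inv (by rw [trace_ti, ht, hd]) (by rw [det_ti, hd])
  · exact key h (by rw [trace_ti, ht, hd]; field_simp [h.1]) (by rw [det_ti, hd, inv_inv])

/-- A matrix that is the product of two members of the two classes. -/
def Cov (τ ν : F) (X : M2) : Prop :=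
  ∃ B : M2, B.det = ν ∧ B.trace = τ ∧ ((X * B).trace = τ ∨ (ν = -1 ∧ (X * B).trace = -τ))

/-- Elements between the radicals over a covered matrix are products of two conjugates. -/
theorem Cov.product (h : Irr τ ν) {X : GL (Fin 2) F} (hX : Cov τ ν (X : M2)) (hdX : (X : M2).det = 1)
    {u n : G2 F} (hu : u ∈ Qm) (hn : n ∈ Qp) :
    ∃ c d : G2 F, u * iGL X * n = c * iGL (comp τ ν h.1) * c⁻¹ * (d * iGL (comp τ ν h.1) * d⁻¹) := by
  obtain ⟨B, hd, ht, hXB⟩ := hX
  obtain ⟨B', hB'⟩ : ∃ B' : GL (Fin 2) F, (B' : M2) = B :=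
    ⟨GeneralLinearGroup.mkOfDetNeZero B (by rw [hd]; exact h.1), rfl⟩
  subst hB'
  have g1 : Good τ ν (X * B') := by
    have hdet : ((X * B' : GL (Fin 2) F) : M2).det = ν := by rw [Units.val_mul, det_mul, hdX, hd, one_mul]
    rcases hXB with e | ⟨e1, e2⟩
    · exact Or.inl ⟨hdet, by rw [Units.val_mul, e]⟩
    · refine Or.inr ⟨by rw [hdet, e1]; norm_num, by rw [Units.val_mul, e2, e1, div_neg, div_one]⟩
  have g2 : Good τ ν B'⁻¹ := by
    refine Or.inr ⟨?_, ?_⟩
    · rw [coe_units_inv, det_nonsing_inv, hd, Ring.inverse_eq_inv']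
    · rw [trace_fin_two] at ht
      rw [coe_units_inv, trace_fin_two, inv_def, hd, Ring.inverse_eq_inv']
      simp [adjugate_fin_two]
      rw [← ht]; ring
  obtain ⟨c, hc⟩ := isConj_iff.1 (g1.absorb_left h hu)
  obtain ⟨d, hd'⟩ := isConj_iff.1 (g2.absorb_right h hn)
  refine ⟨c, d, ?_⟩
  rw [hc, hd', map_mul, map_inv]
  group

end CfsgLib.GTwoSquare
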