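import Cfsg.Agent.Lib.GTwoSquare.Classes

/-!
Which matrices of determinant one are products of two elliptic matrices of the chosen classes.
-/

set_option autoImplicit false

namespace CfsgLib.GTwoSquare

open Matrix Polynomial
open scoped MatrixGroups

variable {F : Type*} [Field F]

local notation "M2" => Matrix (Fin 2) (Fin 2) F

variable {τ ν : F}

theorem Cov.conj (P : GL (Fin 2) F) {X : M2} (h : Cov τ ν X) :
    Cov τ ν ((P : M2) * X * ((P⁻¹ : GL (Fin 2) F) : M2)) := by
  obtain ⟨B, hd, ht, hXB⟩ := h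
  refine ⟨(P : M2) * B * ((P⁻¹ : GL (Fin 2) F) : M2), ?_, ?_, ?_⟩
  · rw [det_mul_comm, ← mul_assoc, ← Units.val_mul, inv_mul_cancel, Units.val_one, one_mul, hd]
  · rw [trace_mul_comm, ← mul_assoc, ← Units.val_mul, inv_mul_cancel, Units.val_one, one_mul, ht]
  · have e : (P : M2) * X * ((P⁻¹ : GL (Fin 2) F) : M2) * ((P : M2) * B * ((P⁻¹ : GL (Fin 2) F) : M2)) =
        (P : M2) * (X * B) * ((P⁻¹ : GL (Fin 2) F) : M2) := by
      simp only [mul_assoc]
      rw [← mul_assoc ((P⁻¹ : GL (Fin 2) F) : M2) (P : M2), ← Units.val_mul, inv_mul_cancel, Units.val_one,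
        one_mul]
    rwa [e, trace_mul_comm, ← mul_assoc, ← Units.val_mul, inv_mul_cancel, Units.val_one, one_mul]

/-- A non-scalar matrix of determinant one is conjugate to its companion. -/
theorem exists_conj_comp {X : M2} (hdet : X.det = 1) (hns : X 0 1 ≠ 0 ∨ X 1 0 ≠ 0 ∨ X 0 0 ≠ X 1 1) :
    ∃ P : GL (Fin 2) F, X = (P : M2) * !![0, -1; 1, X.trace] * ((P⁻¹ : GL (Fin 2) F) : M2) := by
  obtain ⟨x, y, hxy⟩ : ∃ x y : F, x * (X 1 0 * x + X 1 1 * y) - y * (X 0 0 * x + X 0 1 * y) ≠ 0 := by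
    rcases hns with h | h | h
    · exact ⟨0, 1, by simpa using h⟩
    · exact ⟨1, 0, by simpa using h⟩
    · by_cases h10 : X 1 0 = 0
      · by_cases h01 : X 0 1 = 0
        · exact ⟨1, 1, fun e => h (by rw [h10, h01] at e; linear_combination -e)⟩
        · exact ⟨0, 1, by simpa using h01⟩
      · exact ⟨1, 0, by simpa using h10⟩
  let P : GL (Fin 2) F := GeneralLinearGroup.mkOfDetNeZero
    !![x, X 0 0 * x + X 0 1 * y; y, X 1 0 * x + X 1 1 * y] (by
      rw [det_fin_two]
      intro e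
      simp at e
      exact hxy (by linear_combination e))
  refine ⟨P, ?_⟩
  rw [Units.eq_mul_inv_iff_mul_eq]
  show X * !![x, X 0 0 * x + X 0 1 * y; y, X 1 0 * x + X 1 1 * y] =
    !![x, X 0 0 * x + X 0 1 * y; y, X 1 0 * x + X 1 1 * y] * !![0, -1; 1, X.trace]
  rw [det_fin_two] at hdet
  rw [trace_fin_two]
  ext i j
  fin_cases i <;> fin_cases j <;> simp [Matrix.mul_apply, Fin.sum_univ_two]
  · linear_combination -x * hdet
  · linear_combination -y * hdet

theorem cov_companion {s a b : F} (h : (τ - a) * a - b * (b + s * a - τ) = ν) :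
    Cov τ ν !![0, -1; 1, s] := by
  refine ⟨!![τ - a, b; b + s * a - τ, a], ?_, ?_, Or.inl ?_⟩
  · rw [det_fin_two]; simpa using h
  · simp [trace_fin_two]
  · simp [trace_fin_two, Matrix.mul_apply, Fin.sum_univ_two]

variable [Fintype F]

theorem cov_companion_odd (h2 : (2 : F) ≠ 0) (hI : Irr τ (-1)) (s : F) :
    Cov τ (-1) !![0, -1; 1, s] := by
  have hτ : τ ≠ 0 := fun h => hI.2.2 1 (by rw [h]; ring)
  by_cases hs2 : s = 2
  · refine ⟨!![τ + 1 / (2 * τ), 1 / (2 * τ); 1 / (2 * τ) + s * (-(1 / (2 * τ))) + τ, -(1 / (2 * τ))], ?_, ?_,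
      Or.inr ⟨rfl, ?_⟩⟩
    · rw [det_fin_two, hs2]; simp; field_simp; ring
    · simp [trace_fin_two]
    · simp [trace_fin_two, Matrix.mul_apply, Fin.sum_univ_two]; ring
  by_cases hsm : s = -2
  · refine cov_companion (a := -1 / (2 * τ)) (b := -1 / (2 * τ)) ?_
    rw [hsm]; field_simp; ring
  have hodd : Fintype.card F % 2 = 1 := by
    refine FiniteField.odd_card_of_char_ne_two fun hc => h2 ?_
    have : CharP F 2 := hc ▸ ringChar.charP F
    exact CharTwo.two_eq_zero
  have h4 : (-4 : F) ≠ 0 := by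
    rw [show (-4 : F) = -(2 * 2) by norm_num]; exact neg_ne_zero.2 (mul_ne_zero h2 h2)
  have hlead : s ^ 2 - 4 ≠ 0 := by
    intro e
    have : (s - 2) * (s + 2) = 0 := by linear_combination e
    rcases mul_eq_zero.1 this with h | h
    · exact hs2 (by linear_combination h)
    · exact hsm (by linear_combination h)
  obtain ⟨a, y, hay⟩ := FiniteField.exists_root_sum_quadratic
    (f := Polynomial.C (s ^ 2 - 4) * Polynomial.X ^ 2 + Polynomial.C (4 * τ - 2 * s * τ) * Polynomial.X +
      Polynomial.C (τ ^ 2 + 4))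
    (g := Polynomial.C (-4 : F) * Polynomial.X ^ 2 + Polynomial.C 0 * Polynomial.X + Polynomial.C 0)
    (degree_quadratic hlead) (degree_quadratic h4) hodd
  simp only [eval_add, eval_mul, eval_C, eval_pow, eval_X] at hay
  refine cov_companion (a := a) (b := y - (s * a - τ) / 2) ?_
  field_simp
  linear_combination hay

theorem cov_companion_two [CharP F 2] {s : F} (hs : s ≠ 0) : Cov τ ν !![0, -1; 1, s] := by
  obtain ⟨A, hA⟩ := FiniteField.isSquare_of_char_two (ringChar.eq F 2) (τ ^ 2 / s + ν)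
  obtain ⟨m, hm⟩ : ∃ m, s * m = τ := ⟨τ / s, mul_div_cancel₀ τ hs⟩
  have hA' : τ * m + ν = A * A := by rw [← hA, ← hm]; field_simp
  refine cov_companion (a := A + m) (b := m) ?_
  have h20 : (2 : F) = 0 := CharTwo.two_eq_zero
  linear_combination -(A + m) * hm + hA' - (A * m + m * m + ν) * h20

/-- The matrices of determinant one that are to be avoided are the transvections in characteristic two. -/
theorem cov_of (hI : Irr τ ν) (h2 : (2 : F) ≠ 0 → ν = -1) {X : M2} (hdet : X.det = 1)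
    (hX : (2 : F) ≠ 0 ∨ X = 1 ∨ X.trace ≠ 0) : Cov τ ν X := by
  have h1 : ∃ B : M2, B.det = ν ∧ B.trace = τ := ⟨!![0, -ν; 1, τ], by simp [det_fin_two], by simp [trace_fin_two]⟩
  obtain ⟨B, hBd, hBt⟩ := h1
  by_cases hns : X 0 1 ≠ 0 ∨ X 1 0 ≠ 0 ∨ X 0 0 ≠ X 1 1
  · obtain ⟨P, hP⟩ := exists_conj_comp hdet hns
    rw [hP]
    refine Cov.conj P ?_
    by_cases hh : (2 : F) = 0
    · have : CharP F 2 := CharTwo.of_one_ne_zero_of_two_eq_zero one_ne_zero hh
      refine cov_companion_two ?_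
      rcases hX with h | rfl | h
      · exact absurd hh h
      · simp at hns
      · exact h
    · obtain rfl := h2 hh
      exact cov_companion_odd hh hI _
  push Not at hns
  obtain ⟨h01, h10, he⟩ := hns
  rw [det_fin_two, h01, h10, zero_mul, sub_zero, ← he] at hdet
  refine ⟨B, hBd, hBt, ?_⟩
  rcases mul_self_eq_one_iff.1 hdet with h | h
  · left
    have : X = 1 := by ext i j; fin_cases i <;> fin_cases j <;> simp [h, ← he, h01, h10]
    rw [this, one_mul, hBt]
  · have : X = -1 := by ext i j; fin_cases i <;> fin_cases j <;> simp [h, ← he, h01, h10]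
    rw [this, neg_one_mul, trace_neg, hBt]
    by_cases hh : (2 : F) = 0
    · left
      linear_combination -τ * hh
    · exact Or.inr ⟨h2 hh, rfl⟩

/-- A choice of parameters. -/
theorem exists_params (h3 : 3 ≤ Fintype.card F) : ∃ τ ν : F, Irr τ ν ∧ ((2 : F) ≠ 0 → ν = -1) := by
  classical
  obtain ⟨ν, h0, h1, h2⟩ : ∃ ν : F, ν ≠ 0 ∧ ν ≠ 1 ∧ ((2 : F) ≠ 0 → ν = -1) := by
    by_cases hh : (2 : F) = 0
    · obtain ⟨ν, hν⟩ : ∃ ν, ν ∉ ({0, 1} : Finset F) := by
        by_contra h
        push Not at h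
        have := Finset.card_le_card (fun x _ => h x : (Finset.univ : Finset F) ⊆ {0, 1})
        rw [Finset.card_univ] at this
        exact absurd (this.trans Finset.card_le_two) (by omega)
      simp only [Finset.mem_insert, Finset.mem_singleton, not_or] at hν
      exact ⟨ν, hν.1, hν.2, fun h => absurd hh h⟩
    · exact ⟨-1, neg_ne_zero.2 one_ne_zero, fun e => hh (by linear_combination -e), fun _ => rfl⟩
  obtain ⟨τ, hτ⟩ := exists_tau h0
  exact ⟨τ, ν, ⟨h0, h1, hτ⟩, h2⟩

/-- The elliptic element is semisimple. -/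
theorem comp_pow_p {p : ℕ} [Fact p.Prime] [CharP F p] (hI : Irr τ ν) {k : ℕ}
    (h : (comp τ ν hI.1 ^ k) ^ p = 1) : comp τ ν hI.1 ^ k = 1 := by
  classical
  obtain ⟨a, b, hab⟩ : ∃ a b : F, ((comp τ ν hI.1 ^ k : GL (Fin 2) F) : M2) = !![a, -b * ν; b, a + b * τ] := by
    clear h
    induction k with
    | zero => exact ⟨1, 0, by ext i j; fin_cases i <;> fin_cases j <;> simp⟩
    | succ k ih =>
      obtain ⟨a, b, e⟩ := ih
      refine ⟨-b * ν, a + b * τ, ?_⟩
      rw [pow_succ, Units.val_mul, e, coe_comp]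
      ext i j
      fin_cases i <;> fin_cases j <;> simp [Matrix.mul_apply, Fin.sum_univ_two] <;> ring
  refine Units.ext ?_
  rw [hab, Units.val_one]
  have hpow : (((comp τ ν hI.1 ^ k : GL (Fin 2) F) : M2) - 1) ^ p = 0 := by
    rw [sub_pow_char_of_commute p (Commute.one_right _), one_pow, ← Units.val_pow_eq_pow_val, h, Units.val_one,
      sub_self]
  have hdet : ((((comp τ ν hI.1 ^ k : GL (Fin 2) F) : M2) - 1).det) = 0 := by
    have := congrArg Matrix.det hpow
    rw [det_pow, det_zero] at this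
    exact eq_zero_of_pow_eq_zero this
  rw [hab, det_fin_two] at hdet
  simp at hdet
  have hb : b = 0 := by
    by_contra hb
    refine hI.2.2 (-(a - 1) / b) ?_
    field_simp
    linear_combination hdet
  have ha : a = 1 := by
    rw [hb] at hdet
    simp at hdet
    linear_combination hdet
  ext i j
  fin_cases i <;> fin_cases j <;> simp [ha, hb]

theorem not_dvd_orderOf_comp (p : ℕ) [hp : Fact p.Prime] [CharP F p] (hI : Irr τ ν) :
    ¬ p ∣ orderOf (comp τ ν hI.1) := by
  intro h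
  obtain ⟨k, hk⟩ := h
  have hpos := orderOf_pos (comp τ ν hI.1)
  have e := comp_pow_p (p := p) hI (k := k) (by rw [← pow_mul, mul_comm, ← hk, pow_orderOf_eq_one])
  have hle := Nat.le_of_dvd (Nat.pos_of_ne_zero fun h0 => by rw [h0, mul_zero] at hk; omega)
    (orderOf_dvd_of_pow_eq_one e)
  have := hp.1.two_le
  nlinarith

end CfsgLib.GTwoSquare
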