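import Cfsg.Agent.Lib.GTwoSquare.Normal
import Cfsg.Agent.Lib.GTwoSquare.Cover

/-!
Every non-trivial element of the Chevalley group of type G2, over at least three elements, is a product of
two conjugates of one semisimple element.
-/

set_option autoImplicit false

namespace CfsgLib.GTwoSquare

open Matrix Cfsg.Lie CfsgLib.G2Spec CfsgLib.OctG2
open scoped MatrixGroups

variable {F : Type*} [Field F] [Fintype F]

theorem octonion_square_covers (p : ℕ) [Fact p.Prime] [CharP F p] (h3 : 3 ≤ Fintype.card F) :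
    ∃ x : G2 F, ¬ p ∣ orderOf x ∧
      ∀ g : G2 F, g ≠ 1 → ∃ u v : G2 F, g = (u * x * u⁻¹) * (v * x * v⁻¹) := by
  obtain ⟨τ, ν, hI, h2⟩ := exists_params h3
  refine ⟨iGL (comp τ ν hI.1), ?_, fun g hg => ?_⟩
  · rw [orderOf_injective iGL iGL_injective]
    exact not_dvd_orderOf_comp p hI
  obtain ⟨h, h66, hgood⟩ := fine_of_ne_one hg
  obtain ⟨u, hu, X, n, hn, hX, hred, e⟩ := exists_decomp h66
  obtain ⟨c, d, hcd⟩ := Cov.product hI (cov_of hI h2 hX (by rw [hred]; exact hgood)) hX hu hn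
  refine ⟨h⁻¹ * c, h⁻¹ * d, ?_⟩
  have e' : g = h⁻¹ * (h * g * h⁻¹) * h := by group
  rw [e, hcd] at e'
  rw [e']
  group

theorem chevalley_square_covers (p : ℕ) [Fact p.Prime] [CharP F p] (h3 : 3 ≤ Fintype.card F) :
    ∃ x : chevG2.group F, ¬ p ∣ orderOf x ∧
      ∀ g : chevG2.group F, g ≠ 1 → ∃ u v : chevG2.group F, g = (u * x * u⁻¹) * (v * x * v⁻¹) := by
  obtain ⟨x, hx, hcov⟩ := octonion_square_covers (F := F) p h3
  refine ⟨octEquiv.symm x, by rwa [MulEquiv.orderOf_eq], fun g hg => ?_⟩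
  obtain ⟨u, v, e⟩ := hcov (octEquiv g) fun h => hg (octEquiv.injective (h.trans (map_one octEquiv).symm))
  refine ⟨octEquiv.symm u, octEquiv.symm v, ?_⟩
  rw [← map_inv, ← map_inv, ← map_mul, ← map_mul, ← map_mul, ← map_mul, ← map_mul, ← e,
    MulEquiv.symm_apply_apply]

end CfsgLib.GTwoSquare
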