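import Cfsg.Agent.Lib.GTwoSquare.Orbits

/-!
Every non-trivial automorphism has a conjugate in the product of the two radicals and the Levi `SL₂`,
whose middle factor is not a transvection in characteristic two.
-/

set_option autoImplicit false

namespace CfsgLib.GTwoSquare

open Matrix Cfsg.Lie CfsgLib.G2Spec CfsgLib.OctG2 CfsgLib.NormalCover.OctEven
open scoped MatrixGroups

variable {F : Type*} [Field F]

local notation "V8" => Fin 8 → F
local notation "M2" => Matrix (Fin 2) (Fin 2) F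

theorem E_apply (i j : Fin 8) : (E i : V8) j = if j = i then 1 else 0 := Pi.single_apply i 1 j

/-- The middle factor of an element with unit corner entry. -/
def redu (g : G2 F) : M2 :=
  !![app g (E 1) 1 - app g (E 6) 1 * app g (E 1) 6, app g (E 2) 1 - app g (E 6) 1 * app g (E 2) 6;
    app g (E 1) 2 - app g (E 6) 2 * app g (E 1) 6, app g (E 2) 2 - app g (E 6) 2 * app g (E 2) 6]

theorem Qm_rows {u : G2 F} (hu : u ∈ Qm) :
    (∃ c : F, ∀ v : V8, app u v 1 = v 1 + c * v 6) ∧ ∃ c : F, ∀ v : V8, app u v 2 = v 2 + c * v 6 := by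
  obtain ⟨-, ⟨a, ha⟩, ⟨b, hb⟩⟩ := mem_Qm.1 (inv_mem hu)
  have conv : ∀ (i j : Fin 8) (t : F), app sg (E i : V8) = -E j → app sg (E 6 : V8) = -E 3 →
      app (sg * u⁻¹ * sg) (E i) = E i + t • E 6 → app u⁻¹ (E j : V8) = E j + t • E 3 := fun i j t hj h6 h => by
    have h' := congrArg (app sg) h
    rw [app_mul, app_mul, hj, ← app_mul sg sg, sg_mul_sg, app_one, app_add, app_smul, hj, h6] at h'
    have e : app u⁻¹ (-E j : V8) = -app u⁻¹ (E j) := Matrix.mulVec_neg _ _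
    rw [e, smul_neg, ← neg_add, neg_inj] at h'
    exact h'
  have s6 : app sg (E 6 : V8) = -E 3 := by rw [app_sg]; funext k; fin_cases k <;> simp [E]
  have e4 := conv 1 4 a (by rw [app_sg]; funext k; fin_cases k <;> simp [E]) s6 ha
  have e5 := conv 2 5 b (by rw [app_sg]; funext k; fin_cases k <;> simp [E]) s6 hb
  have key : ∀ (j : Fin 8) (t : F), app u⁻¹ (E j : V8) = E j + t • E 3 → ∀ v : V8,
      pol (E j) (app u v) = pol (E j) v - t * v 6 := fun j t h v => by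
    rw [← app_inv' u (E j), pol_app, h, map_add, map_smul, LinearMap.add_apply, LinearMap.smul_apply, pol_E3,
      ← h, app_inv', smul_eq_mul, mul_neg, ← sub_eq_add_neg]
  refine ⟨⟨a, fun v => ?_⟩, ⟨b, fun v => ?_⟩⟩
  · have := key 4 a e4 v
    rw [pol_E4, pol_E4] at this
    linear_combination -this
  · have := key 5 b e5 v
    rw [pol_E5, pol_E5] at this
    linear_combination -this

theorem cols_of_fix {p : G2 F} (h6 : app p (E 6) = E 6) {j : Fin 8} (hj : j = 1 ∨ j = 2) :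
    ∃ a b c : F, app p (E j) = a • E 1 + b • E 2 + c • E 6 := by
  obtain ⟨B, hB, n, ⟨-, ⟨a, ha⟩, ⟨b, hb⟩⟩, rfl⟩ := exists_stab h6
  rcases hj with rfl | rfl
  · refine ⟨(B : M2) 0 0, (B : M2) 1 0, a, ?_⟩
    rw [app_mul, ha, app_iGL, hB]; funext k; fin_cases k <;> simp [E]
  · refine ⟨(B : M2) 0 1, (B : M2) 1 1, b, ?_⟩
    rw [app_mul, hb, app_iGL, hB]; funext k; fin_cases k <;> simp [E]

/-- The decomposition of an element with unit corner entry. -/
theorem exists_decomp {g : G2 F} (h : app g (E 6) 6 = 1) :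
    ∃ u ∈ Qm, ∃ X : GL (Fin 2) F, ∃ n ∈ Qp, (X : M2).det = 1 ∧ (X : M2) = redu g ∧ g = u * iGL X * n := by
  obtain ⟨u, hu, -, he⟩ := exists_Qm (sing_app g (sing_E (by decide) (by decide))) h
  obtain ⟨X, hX, n, hn, hgn⟩ := exists_stab (g := u * g) (by rw [app_mul, he])
  refine ⟨u⁻¹, inv_mem hu, X, n, hn, hX, ?_, by rw [mul_assoc, ← hgn, inv_mul_cancel_left]⟩
  obtain ⟨⟨a, ha⟩, ⟨b, hb⟩⟩ := Qm_rows hu
  have a0 := ha (app g (E 6))
  have b0 := hb (app g (E 6))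
  rw [he, h] at a0 b0
  simp [E_apply] at a0 b0
  obtain ⟨-, ⟨c, hc⟩, ⟨d, hd⟩⟩ := hn
  have k1 : app (u * g) (E 1) = app (iGL X) (E 1 + c • E 6) := by rw [hgn, app_mul, hc]
  have k2 : app (u * g) (E 2) = app (iGL X) (E 2 + d • E 6) := by rw [hgn, app_mul, hd]
  rw [app_mul] at k1 k2
  have p11 : app g (E 1) 1 + a * app g (E 1) 6 = (X : M2) 0 0 := by
    rw [← ha, k1, app_iGL]; simp [E]
  have p21 : app g (E 1) 2 + b * app g (E 1) 6 = (X : M2) 1 0 := by
    rw [← hb, k1, app_iGL]; simp [E]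
  have p12 : app g (E 2) 1 + a * app g (E 2) 6 = (X : M2) 0 1 := by
    rw [← ha, k2, app_iGL]; simp [E]
  have p22 : app g (E 2) 2 + b * app g (E 2) 6 = (X : M2) 1 1 := by
    rw [← hb, k2, app_iGL]; simp [E]
  ext i j
  fin_cases i <;> fin_cases j <;> simp only [redu] <;> simp
  · linear_combination -p11 - app g (E 1) 6 * a0
  · linear_combination -p12 - app g (E 2) 6 * a0
  · linear_combination -p21 - app g (E 1) 6 * b0
  · linear_combination -p22 - app g (E 2) 6 * b0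

theorem det_redu {g : G2 F} (h : app g (E 6) 6 = 1) : (redu g).det = 1 := by
  obtain ⟨u, -, X, n, -, hX, e, -⟩ := exists_decomp h
  rw [← e, hX]

theorem redu_mul {g p : G2 F} (hg : app g (E 6) 6 = 1) (h6 : app p (E 6) = E 6) :
    redu (g * p) = redu g * redu p := by
  obtain ⟨a, b, c, e1⟩ := cols_of_fix h6 (j := 1) (Or.inl rfl)
  obtain ⟨a', b', c', e2⟩ := cols_of_fix h6 (j := 2) (Or.inr rfl)
  have f : app (g * p) (E 6) = app g (E 6) := by rw [app_mul, h6]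
  have g1 : app (g * p) (E 1) = a • app g (E 1) + b • app g (E 2) + c • app g (E 6) := by
    rw [app_mul, e1]; simp only [app_add, app_smul]
  have g2 : app (g * p) (E 2) = a' • app g (E 1) + b' • app g (E 2) + c' • app g (E 6) := by
    rw [app_mul, e2]; simp only [app_add, app_smul]
  ext i j
  fin_cases i <;> fin_cases j <;>
    simp [redu, f, g1, g2, e1, e2, h6, E_apply, Matrix.mul_apply, Fin.sum_univ_two] <;>
    simp [E_apply, hg] <;> ring

theorem redu_iGL {B : GL (Fin 2) F} (hB : (B : M2).det = 1) : redu (iGL B) = (B : M2) := by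
  ext i j
  fin_cases i <;> fin_cases j <;> simp [redu, app_iGL, hB, E_apply]

theorem redu_Qp {n : G2 F} (hn : n ∈ Qp) : redu n = 1 := by
  obtain ⟨h6, ⟨a, ha⟩, ⟨b, hb⟩⟩ := hn
  ext i j
  fin_cases i <;> fin_cases j <;> simp [redu, h6, ha, hb, E_apply]

theorem redu_of_fix {q : G2 F} (h6 : app q (E 6) = E 6) (h1 : app q (E 1) = E 1) (h2 : app q (E 2) = E 2) :
    redu q = 1 := redu_Qp ⟨h6, ⟨0, by rw [h1, zero_smul, add_zero]⟩, ⟨0, by rw [h2, zero_smul, add_zero]⟩⟩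

/-- The permutations used for the two degenerate normal forms. -/
theorem exists_perm {e : F} (h : e * e = 1) :
    ∃ S : G2 F, ∀ v : V8, app S v = ![v 0, v 1, e * v 3, -e * v 2, v 4, e * v 6, -e * v 5, v 7] := by
  have hd : (!![1, 0, 0; 0, 0, e; 0, -e, 0] : Matrix (Fin 3) (Fin 3) F).det = 1 := by
    rw [det_fin_three]; simp [h]
  obtain ⟨A, hA⟩ : ∃ A : SpecialLinearGroup (Fin 3) F, (A : Matrix (Fin 3) (Fin 3) F) =
      !![1, 0, 0; 0, 0, e; 0, -e, 0] := ⟨⟨_, hd⟩, rfl⟩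
  refine ⟨slAut A, fun v => ?_⟩
  rw [app_slAut, hA]
  funext k
  fin_cases k <;> simp [slLin, zA, zB, Matrix.mulVec, dotProduct, Fin.sum_univ_three, adjugate_fin_three, h]

theorem good_right {Z : M2} (hZ : Z.det = 1) (h2 : (2 : F) = 0) :
    ∃ s : F, Z * (tu s : M2) = 1 ∨ (Z * (tu s : M2)).trace ≠ 0 := by
  by_contra h
  push Not at h
  have t0 := (h 0).2
  have t1 := (h 1).2
  simp [coe_tu, trace_fin_two, Matrix.mul_apply, Fin.sum_univ_two] at t0 t1
  have hc : Z 1 0 = 0 := by linear_combination t1 - t0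
  rw [det_fin_two, hc, mul_zero, sub_zero] at hZ
  have h11 : Z 1 1 = Z 0 0 := by linear_combination t0 - Z 0 0 * h2
  rw [h11] at hZ
  have h00 : Z 0 0 = 1 := by
    rcases mul_self_eq_one_iff.1 hZ with e | e
    · exact e
    · linear_combination e - h2
  refine (h (-(Z 0 1))).1 ?_
  ext i j
  fin_cases i <;> fin_cases j <;> simp [coe_tu, Matrix.mul_apply, Fin.sum_univ_two, hc, h11, h00]

theorem good_right' {Z : M2} (hZ : Z.det = 1) (h2 : (2 : F) = 0) :
    ∃ s : F, Z * (tl s : M2) = 1 ∨ (Z * (tl s : M2)).trace ≠ 0 := by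
  by_contra h
  push Not at h
  have t0 := (h 0).2
  have t1 := (h 1).2
  simp [coe_tl, trace_fin_two, Matrix.mul_apply, Fin.sum_univ_two] at t0 t1
  have hc : Z 0 1 = 0 := by linear_combination t1 - t0
  rw [det_fin_two, hc, zero_mul, sub_zero] at hZ
  have h11 : Z 1 1 = Z 0 0 := by linear_combination t0 - Z 0 0 * h2
  rw [h11] at hZ
  have h00 : Z 0 0 = 1 := by
    rcases mul_self_eq_one_iff.1 hZ with e | e
    · exact e
    · linear_combination e - h2
  refine (h (-(Z 1 0))).1 ?_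
  ext i j
  fin_cases i <;> fin_cases j <;> simp [coe_tl, Matrix.mul_apply, Fin.sum_univ_two, hc, h11, h00]

/-- The property to be achieved. -/
def Fine (g : G2 F) : Prop :=
  ∃ h : G2 F, app (h * g * h⁻¹) (E 6) 6 = 1 ∧
    ((2 : F) ≠ 0 ∨ redu (h * g * h⁻¹) = 1 ∨ (redu (h * g * h⁻¹)).trace ≠ 0)

/-- The common step of the two degenerate normal forms. -/
theorem fine_degenerate {g S K : G2 F} {u : V8} (hgu : app g (E 6) = u) (hSu : app S (E 6) = u) (hK : K ∈ Qp)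
    (hKu : app K u 6 = 1) (T : F → GL (Fin 2) F) (hT : ∀ s, (T s : M2).det = 1)
    (hxu : ∀ s, app (iGL (T s)) u = u) (hx1 : ∀ s, app (iGL (T s)) (app S (E 1)) = app S (E 1))
    (hx2 : ∀ s, app (iGL (T s)) (app S (E 2)) = app S (E 2))
    (hgood : ∀ Z : M2, Z.det = 1 → (2 : F) = 0 → ∃ s, Z * (T s : M2) = 1 ∨ (Z * (T s : M2)).trace ≠ 0) :
    Fine g := by
  classical
  have hp : app (S⁻¹ * g) (E 6) = E 6 := by rw [app_mul, hgu, ← hSu, app_inv]
  have hKS : app (K * S) (E 6) 6 = 1 := by rw [app_mul, hSu, hKu]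
  have main : ∀ s : F, app (K * (iGL (T s))⁻¹ * g * (K * (iGL (T s))⁻¹)⁻¹) (E 6) 6 = 1 ∧
      redu (K * (iGL (T s))⁻¹ * g * (K * (iGL (T s))⁻¹)⁻¹) = redu (K * S) * redu (S⁻¹ * g) * (T s : M2) := by
    intro s
    have x6 : app (iGL (T s)) (E 6 : V8) = E 6 := by
      rw [app_iGL, hT]; funext k; fin_cases k <;> simp [E]
    have hKi : app K⁻¹ (E 6 : V8) = E 6 := (inv_mem hK : K⁻¹ ∈ Qp).1
    have q : ∀ j : Fin 8, app (iGL (T s)) (app S (E j)) = app S (E j) →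
        app (S⁻¹ * (iGL (T s))⁻¹ * S) (E j) = E j := fun j h => by
      rw [app_mul, app_mul]
      conv_lhs => rw [← h, app_inv, app_inv]
    have q6 := q 6 (by rw [hSu, hxu])
    have e : K * (iGL (T s))⁻¹ * g * (K * (iGL (T s))⁻¹)⁻¹ =
        K * S * ((S⁻¹ * (iGL (T s))⁻¹ * S) * (S⁻¹ * g) * iGL (T s) * K⁻¹) := by group
    have r6 : app ((S⁻¹ * (iGL (T s))⁻¹ * S) * (S⁻¹ * g)) (E 6) = E 6 := by rw [app_mul, hp, q6]
    have r6' : app ((S⁻¹ * (iGL (T s))⁻¹ * S) * (S⁻¹ * g) * iGL (T s)) (E 6) = E 6 := by rw [app_mul, x6, r6]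
    have r6'' : app ((S⁻¹ * (iGL (T s))⁻¹ * S) * (S⁻¹ * g) * iGL (T s) * K⁻¹) (E 6) = E 6 := by
      rw [app_mul, hKi, r6']
    rw [e]
    refine ⟨by rw [app_mul, r6'', hKS], ?_⟩
    rw [redu_mul hKS r6'', redu_mul (g := _ * iGL (T s)) (by rw [r6', E_self]) hKi,
      redu_mul (g := (S⁻¹ * (iGL (T s))⁻¹ * S) * (S⁻¹ * g)) (by rw [r6, E_self]) x6,
      redu_mul (g := S⁻¹ * (iGL (T s))⁻¹ * S) (by rw [q6, E_self]) hp,
      redu_of_fix q6 (q 1 (hx1 s)) (q 2 (hx2 s)), redu_iGL (hT s), redu_Qp (inv_mem hK), one_mul, mul_one,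
      mul_assoc]
  by_cases h2 : (2 : F) = 0
  · obtain ⟨s, hs⟩ := hgood (redu (K * S) * redu (S⁻¹ * g))
      (by rw [det_mul, det_redu hKS, det_redu (g := S⁻¹ * g) (by rw [hp, E_self]), one_mul]) h2
    refine ⟨_, (main s).1, Or.inr ?_⟩
    rw [(main s).2]
    exact hs
  · exact ⟨_, (main 0).1, Or.inl h2⟩

theorem fine_five {g : G2 F} (h : app g (E 6) = E 5) : Fine g := by
  obtain ⟨S, hSv⟩ := exists_perm (e := (1 : F)) (one_mul 1)
  refine fine_degenerate (S := S) (K := xe 11 (-1)) h ?_ (xe_mem_Qp (by simp) _) ?_ tu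
    (fun s => by rw [coe_tu]; simp [det_fin_two]) (fun s => ?_) (fun s => ?_) (fun s => ?_)
    fun Z hZ h2 => good_right hZ h2
  · rw [hSv]; funext k; fin_cases k <;> simp [E]
  · rw [app_xe11]; simp [E]
  all_goals rw [app_iGL, coe_tu]
  · funext k; fin_cases k <;> simp [E, det_fin_two]
  all_goals rw [hSv]; funext k; fin_cases k <;> simp [E, det_fin_two]

theorem fine_two {g : G2 F} (h : app g (E 6) = E 2) : Fine g := by
  obtain ⟨S, hSv⟩ := exists_perm (e := (-1 : F)) (by norm_num)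
  refine fine_degenerate (S := sg * S) (K := xe 7 1) h ?_ (xe_mem_Qp (by simp) _) ?_ tl
    (fun s => by rw [coe_tl]; simp [det_fin_two]) (fun s => ?_) (fun s => ?_) (fun s => ?_)
    fun Z hZ h2 => good_right' hZ h2
  · rw [app_mul, hSv, app_sg]; funext k; fin_cases k <;> simp [E]
  · rw [app_xe7]; simp [E]
  all_goals rw [app_iGL, coe_tl]
  · funext k; fin_cases k <;> simp [E, det_fin_two]
  all_goals rw [app_mul, hSv, app_sg]; funext k; fin_cases k <;> simp [E, det_fin_two]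

theorem fine_three [Fintype F] {g : G2 F} {β : F} (hβ : β ≠ 0) (h : app g (E 6) = β • E 3) : Fine g := by
  classical
  have hA : (!![1, 0, 0; 0, -β, 0; 0, 0, -β⁻¹] : Matrix (Fin 3) (Fin 3) F).det = 1 := by
    rw [det_fin_three]; simp [hβ]
  obtain ⟨S, hS⟩ : ∃ S : G2 F, ∀ v : V8,
      app S v = ![v 7, -v 4, v 5 / β, β * v 6, -v 1, β * v 2, v 3 / β, v 0] := by
    obtain ⟨A, hA'⟩ : ∃ A : SpecialLinearGroup (Fin 3) F, (A : Matrix (Fin 3) (Fin 3) F) =
        !![1, 0, 0; 0, -β, 0; 0, 0, -β⁻¹] := ⟨⟨_, hA⟩, rfl⟩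
    refine ⟨sg * slAut A, fun v => ?_⟩
    rw [app_mul, app_sg, app_slAut, hA']
    funext k
    fin_cases k <;>
      simp [slLin, zA, zB, Matrix.mulVec, dotProduct, Fin.sum_univ_three, adjugate_fin_three] <;>
      field_simp
  have hS6 : app S (E 6) = β • E 3 := by rw [hS]; funext k; fin_cases k <;> simp [E]
  have hp : app (S⁻¹ * g) (E 6) = E 6 := by rw [app_mul, h, ← hS6, app_inv]
  have main : ∀ K ∈ (Qp : Subgroup (G2 F)), app (K * S) (E 6) 6 = 1 →
      app (K * g * K⁻¹) (E 6) 6 = 1 ∧ redu (K * g * K⁻¹) = redu (K * S) * redu (S⁻¹ * g) := fun K hK hKS => by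
    have hKi : app K⁻¹ (E 6 : V8) = E 6 := (inv_mem hK : K⁻¹ ∈ Qp).1
    have r : app (S⁻¹ * g * K⁻¹) (E 6) = E 6 := by rw [app_mul, hKi, hp]
    rw [show K * g * K⁻¹ = K * S * (S⁻¹ * g * K⁻¹) by group]
    refine ⟨by rw [app_mul, r, hKS], ?_⟩
    rw [redu_mul hKS r, redu_mul (g := S⁻¹ * g) (by rw [hp, E_self]) hKi, redu_Qp (inv_mem hK), mul_one]
  by_cases h2 : (2 : F) = 0
  swap
  · refine ⟨_, (main (xe 11 β⁻¹ * xe 7 1) (mul_mem (xe_mem_Qp (by simp) _) (xe_mem_Qp (by simp) _)) ?_).1,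
      Or.inl h2⟩
    rw [app_mul, hS6, app_mul, app_xe7, app_xe11]
    simp [E, hβ]
  have : CharP F 2 := CharTwo.of_one_ne_zero_of_two_eq_zero one_ne_zero h2
  obtain ⟨γ, hγ⟩ : ∃ γ : F, β * (γ * γ) = 1 := by
    obtain ⟨γ, hγ⟩ := FiniteField.isSquare_of_char_two (ringChar.eq F 2) β⁻¹
    exact ⟨γ, by rw [← hγ, mul_inv_cancel₀ hβ]⟩
  have n2 : ∀ x : F, -x = x := CharTwo.neg_eq
  have s2 : ∀ x y : F, x - y = x + y := CharTwo.sub_eq_add
  have k0 : xe 9 γ ∈ (Qp : Subgroup (G2 F)) := xe_mem_Qp (by simp) _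
  have k3 : xe 9 γ * xe 7 1 ∈ (Qp : Subgroup (G2 F)) := mul_mem k0 (xe_mem_Qp (by simp) _)
  have k4 : xe 9 γ * xe 8 1 ∈ (Qp : Subgroup (G2 F)) := mul_mem k0 (xe_mem_Qp (by simp) _)
  have c0 : app (xe 9 γ * S) (E 6) 6 = 1 := by
    rw [app_mul, hS, app_xe9]; simp [E, n2, s2]; linear_combination hγ
  have c3 : app (xe 9 γ * xe 7 1 * S) (E 6) 6 = 1 := by
    rw [app_mul, hS, app_mul, app_xe7, app_xe9]; simp [E, n2, s2]; linear_combination hγ
  have c4 : app (xe 9 γ * xe 8 1 * S) (E 6) 6 = 1 := by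
    rw [app_mul, hS, app_mul, app_xe8, app_xe9]; simp [E, n2, s2]; linear_combination hγ
  have f0 : redu (xe 9 γ * S) = !![0, β * γ; γ, 0] := by
    ext i j
    fin_cases i <;> fin_cases j <;> simp [redu, app_mul, hS, app_xe9, E, n2, s2] <;>
      first | ring1 | linear_combination (0 : F) * h2
  have f3 : redu (xe 9 γ * xe 7 1 * S) = !![1, β * γ; γ, 0] := by
    ext i j
    fin_cases i <;> fin_cases j <;> simp [redu, app_mul, hS, app_xe7, app_xe9, E, n2, s2] <;>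
      first | ring1 | linear_combination (β * γ * γ) * h2
  have f4 : redu (xe 9 γ * xe 8 1 * S) = !![0, β * γ; γ, β] := by
    ext i j
    fin_cases i <;> fin_cases j <;> simp [redu, app_mul, hS, app_xe8, app_xe9, E, n2, s2] <;>
      first | ring1 | linear_combination (β * β * γ * γ) * h2
  obtain ⟨Z, hZ⟩ : ∃ Z, Z = redu (S⁻¹ * g) := ⟨_, rfl⟩
  have hdet : Z.det = 1 := by rw [hZ, det_redu (g := S⁻¹ * g) (by rw [hp, E_self])]
  by_cases t0 : (!![0, β * γ; γ, 0] * Z : M2).trace ≠ 0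
  · exact ⟨_, (main _ k0 c0).1, Or.inr (Or.inr (by rwa [(main _ k0 c0).2, f0, ← hZ]))⟩
  by_cases t3 : (!![1, β * γ; γ, 0] * Z : M2).trace ≠ 0
  · exact ⟨_, (main _ k3 c3).1, Or.inr (Or.inr (by rwa [(main _ k3 c3).2, f3, ← hZ]))⟩
  by_cases t4 : (!![0, β * γ; γ, β] * Z : M2).trace ≠ 0
  · exact ⟨_, (main _ k4 c4).1, Or.inr (Or.inr (by rwa [(main _ k4 c4).2, f4, ← hZ]))⟩
  push Not at t0 t3 t4
  refine ⟨_, (main _ k0 c0).1, Or.inr (Or.inl ?_)⟩
  rw [(main _ k0 c0).2, f0, ← hZ]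
  simp [trace_fin_two, Matrix.vecMul, dotProduct, Fin.sum_univ_two] at t0 t3 t4
  have z00 : Z 0 0 = 0 := by linear_combination t3 - t0
  have z11 : Z 1 1 = 0 := by
    refine (mul_eq_zero.1 ?_).resolve_left hβ
    linear_combination t4 - t0
  have hγ0 : γ ≠ 0 := fun e => by simp [e] at hγ
  have z01 : Z 0 1 = β * Z 1 0 := by
    refine mul_left_cancel₀ hγ0 ?_
    linear_combination t0 - (β * γ * Z 1 0) * h2
  rw [det_fin_two, z00, z11, z01, zero_mul, zero_sub] at hdet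
  have z10 : Z 1 0 = γ := by
    have e : (Z 1 0 - γ) * (Z 1 0 - γ) = 0 := by
      refine (mul_eq_zero.1 (show β * ((Z 1 0 - γ) * (Z 1 0 - γ)) = 0 from ?_)).resolve_left hβ
      linear_combination -hdet + hγ - (β * Z 1 0 * γ) * h2
    exact sub_eq_zero.1 (mul_self_eq_zero.1 e)
  ext i j
  fin_cases i <;> fin_cases j <;> simp [Matrix.mul_apply, Fin.sum_univ_two, z00, z11, z01, z10] <;>
    linear_combination hγ

/-- A non-trivial automorphism moves some singular line. -/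
theorem exists_moved {g : G2 F} (hg : g ≠ 1) : ∃ v : V8, Sing v ∧ ∀ c : F, app g v ≠ c • v := by
  by_contra h
  push Not at h
  have hi : ∀ i : Fin 8, ∃ c : F, i ≠ 0 → i ≠ 7 → app g (E i) = c • E i := fun i => by
    by_cases h0 : i = 0
    · exact ⟨0, fun e => absurd h0 e⟩
    by_cases h7 : i = 7
    · exact ⟨0, fun _ e => absurd h7 e⟩
    obtain ⟨c, hc⟩ := h (E i) (sing_E h0 h7)
    exact ⟨c, fun _ _ => hc⟩
  choose lam hlam using hi
  have pair : ∀ i j : Fin 8, i ≠ 0 → i ≠ 7 → j ≠ 0 → j ≠ 7 → i ≠ j → Sing (E i + E j : V8) →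
      lam i = lam j := fun i j a b c d hne hs => by
    obtain ⟨k, hk⟩ := h _ hs
    rw [app_add, hlam i a b, hlam j c d] at hk
    have e1 := congrFun hk i
    have e2 := congrFun hk j
    simp [E, hne, hne.symm] at e1 e2
    rw [e1, e2]
  have l12 := pair 1 2 (by decide) (by decide) (by decide) (by decide) (by decide) (by
    refine ⟨?_, ?_⟩ <;> simp [trc_apply, nrm, dot3, zA, zB, E])
  have l13 := pair 1 3 (by decide) (by decide) (by decide) (by decide) (by decide) (by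
    refine ⟨?_, ?_⟩ <;> simp [trc_apply, nrm, dot3, zA, zB, E])
  have l15 := pair 1 5 (by decide) (by decide) (by decide) (by decide) (by decide) (by
    refine ⟨?_, ?_⟩ <;> simp [trc_apply, nrm, dot3, zA, zB, E])
  have l54 := pair 5 4 (by decide) (by decide) (by decide) (by decide) (by decide) (by
    refine ⟨?_, ?_⟩ <;> simp [trc_apply, nrm, dot3, zA, zB, E])
  have l56 := pair 5 6 (by decide) (by decide) (by decide) (by decide) (by decide) (by
    refine ⟨?_, ?_⟩ <;> simp [trc_apply, nrm, dot3, zA, zB, E])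
  have h1 : app g (E 1) = lam 1 • E 1 := hlam 1 (by decide) (by decide)
  have h2 : app g (E 2) = lam 1 • E 2 := by rw [hlam 2 (by decide) (by decide), l12]
  have h3 : app g (E 3) = lam 1 • E 3 := by rw [hlam 3 (by decide) (by decide), l13]
  have h5 : app g (E 5) = lam 1 • E 5 := by rw [hlam 5 (by decide) (by decide), l15]
  have h4 : app g (E 4) = lam 1 • E 4 := by rw [hlam 4 (by decide) (by decide), l15, l54]
  have h6 : app g (E 6) = lam 1 • E 6 := by rw [hlam 6 (by decide) (by decide), l15, l56]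
  have h0 : app g (E 0) = (lam 1 * lam 1) • E 0 := by
    have e : (E 0 : V8) = zornMul (E 1) (E 4) := by
      funext k; fin_cases k <;> simp [zornMul, E, dot3, cross3, zA, zB]
    rw [e, app_zornMul, h1, h4]
    funext k; fin_cases k <;> simp [zornMul, E, dot3, cross3, zA, zB]
  have h7 : app g (E 7) = (lam 1 * lam 1) • E 7 := by
    have e : (E 7 : V8) = zornMul (E 4) (E 1) := by
      funext k; fin_cases k <;> simp [zornMul, E, dot3, cross3, zA, zB]
    rw [e, app_zornMul, h1, h4]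
    funext k; fin_cases k <;> simp [zornMul, E, dot3, cross3, zA, zB]
  obtain ⟨k, hk⟩ := h (E 0 - E 7 + E 1 - E 4) (by
    refine ⟨?_, ?_⟩ <;> simp [trc_apply, nrm, dot3, zA, zB, E])
  rw [app_sub, app_add, app_sub, h0, h7, h1, h4] at hk
  have e0 := congrFun hk 0
  have e1 := congrFun hk 1
  simp [E] at e0 e1
  have hne : lam 1 ≠ 0 := fun e => by
    rw [e, zero_smul] at h1
    exact E_ne_zero 1 (app_injective g (h1.trans (Matrix.mulVec_zero _).symm))
  have hl : lam 1 = 1 := mul_right_cancel₀ hne (by rw [one_mul, e0, ← e1])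
  refine hg (app_ext fun v => ?_)
  rw [app_sum_E, app_one]
  conv_rhs => rw [eq_sum_E v]
  refine Finset.sum_congr rfl fun i _ => ?_
  congr 1
  rw [hl] at h0 h1 h2 h3 h4 h5 h6 h7
  simp only [one_mul, one_smul] at h0 h1 h2 h3 h4 h5 h6 h7
  fin_cases i <;> assumption

theorem sing_cases {u : V8} (hu : Sing u) (hne : ∀ c : F, u ≠ c • E 6) :
    ∃ p : G2 F, app p (E 6) = E 6 ∧
      ((∃ β : F, β ≠ 0 ∧ app p u = β • E 3) ∨ app p u = E 5 ∨ app p u = E 2) := by
  classical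
  by_cases h3 : u 3 ≠ 0
  · obtain ⟨n, hn, -, he⟩ := exists_Qp (w := (u 3)⁻¹ • u) (sing_smul _ hu) (by simp [h3])
    refine ⟨n, hn.1, Or.inl ⟨u 3, h3, ?_⟩⟩
    rw [app_smul] at he
    rw [← he, smul_smul, mul_inv_cancel₀ h3, one_smul]
  push Not at h3
  have fixB : ∀ B : GL (Fin 2) F, (B : M2).det = 1 → app (iGL B) (E 6 : V8) = E 6 := fun B hB => by
    rw [app_iGL, hB]; funext k; fin_cases k <;> simp [E]
  by_cases h45 : u 4 ≠ 0 ∨ u 5 ≠ 0
  · obtain ⟨B, hB, hw4, hw5⟩ : ∃ B : GL (Fin 2) F, (B : M2).det = 1 ∧ app (iGL B) u 4 = 0 ∧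
        app (iGL B) u 5 = 1 := by
      by_cases h4 : u 4 = 0
      · have h5 : u 5 ≠ 0 := h45.resolve_left (not_not.2 h4)
        have hd : (!![(u 5)⁻¹, 0; 0, u 5] : M2).det = 1 := by simp [det_fin_two, h5]
        refine ⟨GeneralLinearGroup.mkOfDetNeZero _ (by rw [hd]; exact one_ne_zero), hd, ?_, ?_⟩ <;>
          (rw [app_iGL]; simp [det_fin_two, h4, h5])
      · have hd : (!![0, -(u 4)⁻¹; u 4, u 5] : M2).det = 1 := by simp [det_fin_two, h4]
        refine ⟨GeneralLinearGroup.mkOfDetNeZero _ (by rw [hd]; exact one_ne_zero), hd, ?_, ?_⟩ <;>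
          (rw [app_iGL]; simp [det_fin_two, h4])
        ring
    obtain ⟨w, hw⟩ : ∃ w, w = app (iGL B) u := ⟨_, rfl⟩
    have hw3 : w 3 = 0 := by rw [hw, app_iGL]; simp [h3]
    rw [← hw] at hw4 hw5
    obtain ⟨w', hw'⟩ : ∃ w', w' = app (xe 8 (-(w 0))) w := ⟨_, rfl⟩
    have a0 : w' 0 = 0 := by rw [hw', app_xe8]; simp [hw5]
    have a3 : w' 3 = 0 := by rw [hw', app_xe8]; simp [hw3]
    have a4 : w' 4 = 0 := by rw [hw', app_xe8]; simp [hw4, hw3]
    have a5 : w' 5 = 1 := by rw [hw', app_xe8]; simp [hw5]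
    have sw' : Sing w' := hw' ▸ sing_app _ (hw ▸ sing_app _ hu)
    have a7 : w' 7 = 0 := by have := sw'.1; rwa [trc_apply, a0, zero_add] at this
    obtain ⟨w'', hw''⟩ : ∃ w'', w'' = app (xe 11 (w' 6)) (app (xe 9 (w' 1)) w') := ⟨_, rfl⟩
    have sw : Sing w'' := hw'' ▸ sing_app _ (sing_app _ sw')
    have b : w'' 0 = 0 ∧ w'' 1 = 0 ∧ w'' 3 = 0 ∧ w'' 4 = 0 ∧ w'' 5 = 1 ∧ w'' 6 = 0 ∧ w'' 7 = 0 := by
      rw [hw'', app_xe11, app_xe9]; simp [a0, a3, a4, a5, a7]
    obtain ⟨b0, b1, b3, b4, b5, b6, b7⟩ := b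
    have b2 : w'' 2 = 0 := by simpa [nrm, dot3, zA, zB, b0, b1, b3, b4, b5] using sw.2
    refine ⟨xe 11 (w' 6) * xe 9 (w' 1) * xe 8 (-(w 0)) * iGL B, ?_, Or.inr (Or.inl ?_)⟩
    · rw [app_mul, fixB B hB, app_mul, app_mul]
      rw [(xe_mem_Qp (r := 8) (by simp) _).1, (xe_mem_Qp (r := 9) (by simp) _).1,
        (xe_mem_Qp (r := 11) (by simp) _).1]
    · rw [app_mul, app_mul, app_mul, ← hw, ← hw', ← hw'']
      funext k; fin_cases k <;> simp [E, b0, b1, b2, b3, b4, b5, b6, b7]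
  push Not at h45
  obtain ⟨h4, h5⟩ := h45
  have h07 : u 0 = 0 ∧ u 7 = 0 := by
    have ht : u 0 + u 7 = 0 := hu.1
    have hn : u 0 * u 7 = 0 := by simpa [nrm, dot3, zA, zB, h3, h4, h5] using hu.2
    rcases mul_eq_zero.1 hn with e | e <;> simp_all
  obtain ⟨h0, h7⟩ := h07
  have h12 : u 1 ≠ 0 ∨ u 2 ≠ 0 := by
    by_contra hh
    push Not at hh
    obtain ⟨e1, e2⟩ := hh
    exact hne (u 6) (by funext k; fin_cases k <;> simp [E, h0, e1, e2, h3, h4, h5, h7])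
  obtain ⟨B, hB, hw1, hw2⟩ : ∃ B : GL (Fin 2) F, (B : M2).det = 1 ∧ app (iGL B) u 1 = 0 ∧
      app (iGL B) u 2 = 1 := by
    by_cases h1 : u 1 = 0
    · have h2 : u 2 ≠ 0 := h12.resolve_left (not_not.2 h1)
      have hd : (!![u 2, 0; 0, (u 2)⁻¹] : M2).det = 1 := by simp [det_fin_two, h2]
      refine ⟨GeneralLinearGroup.mkOfDetNeZero _ (by rw [hd]; exact one_ne_zero), hd, ?_, ?_⟩ <;>
        (rw [app_iGL]; simp [h1, h2])
    · have hd : (!![u 2, -u 1; (u 1)⁻¹, 0] : M2).det = 1 := by simp [det_fin_two, h1]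
      refine ⟨GeneralLinearGroup.mkOfDetNeZero _ (by rw [hd]; exact one_ne_zero), hd, ?_, ?_⟩ <;>
        (rw [app_iGL]; simp [h1])
      ring
  obtain ⟨w, hw⟩ : ∃ w, w = app (iGL B) u := ⟨_, rfl⟩
  rw [← hw] at hw1 hw2
  have hz : w 0 = 0 ∧ w 3 = 0 ∧ w 4 = 0 ∧ w 5 = 0 ∧ w 7 = 0 := by
    rw [hw, app_iGL]; simp [h0, h3, h4, h5, h7]
  obtain ⟨z0, z3, z4, z5, z7⟩ := hz
  refine ⟨xe 7 (-(w 6)) * iGL B, ?_, Or.inr (Or.inr ?_)⟩
  · rw [app_mul, fixB B hB, (xe_mem_Qp (r := 7) (by simp) _).1]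
  · rw [app_mul, ← hw, app_xe7]
    funext k; fin_cases k <;> simp [E, z0, z3, z4, z5, z7, hw1, hw2]

/-- Every non-trivial element is conjugate to one of the wanted form. -/
theorem fine_of_ne_one [Fintype F] {g : G2 F} (hg : g ≠ 1) : Fine g := by
  obtain ⟨v, hv, hmv⟩ := exists_moved hg
  have hv0 : v ≠ 0 := fun e => hmv 0 (by rw [e, zero_smul]; exact Matrix.mulVec_zero _)
  obtain ⟨h, -, he⟩ := exists_to_E6 hv hv0
  have hhi : app h⁻¹ (E 6 : V8) = v := by rw [← he, app_inv]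
  obtain ⟨p, hp6, hcase⟩ := sing_cases (u := app (h * g * h⁻¹) (E 6))
    (sing_app _ (sing_E (by decide) (by decide))) (fun c e => hmv c (by
      rw [app_mul, app_mul, hhi] at e
      have := congrArg (app h⁻¹) e
      rwa [app_inv, app_smul, hhi] at this))
  have hpi : app p⁻¹ (E 6 : V8) = E 6 := by conv_lhs => rw [← hp6, app_inv]
  have e6 : app (p * (h * g * h⁻¹) * p⁻¹) (E 6) = app p (app (h * g * h⁻¹) (E 6)) := by
    rw [app_mul, hpi, app_mul]
  have hfine : Fine (p * (h * g * h⁻¹) * p⁻¹) := by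
    rcases hcase with ⟨β, hβ, e⟩ | e | e
    · exact fine_three hβ (e6.trans e)
    · exact fine_five (e6.trans e)
    · exact fine_two (e6.trans e)
  obtain ⟨k, hk⟩ := hfine
  refine ⟨k * p * h, ?_⟩
  rwa [show k * p * h * g * (k * p * h)⁻¹ = k * (p * (h * g * h⁻¹) * p⁻¹) * k⁻¹ by group]

end CfsgLib.GTwoSquare
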